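import Mathlib
import Groth.Prelude.Def_Omega2
import Groth.Agent.Lib.Helper7.GenBC.H0Geom
import Groth.Agent.Lib.Helper4.UnitFLF1
import Groth.Agent.Lib.Helper2.Sch.SmoothOmegaRank
import Groth.Agent.Lib.Helper5.Perf.Pull
import Groth.Agent.Lib.Lead.OmU13d
import Groth.Agent.Lib.Lead.FLF1
import Groth.Agent.S1937
import Groth.Agent.S7795

set_option linter.style.haveILetI false
set_option linter.unusedVariables false
set_option linter.unusedSectionVars false
set_option autoImplicit false
set_option backward.isDefEq.respectTransparency.types false
set_option backward.isDefEq.respectTransparency false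
set_option synthInstance.maxHeartbeats 400000
set_option maxHeartbeats 1600000

universe u

/-! helper7: the differentials of an abelian scheme: the pullback along the unit section is finite locally free and is the direct image of the differentials -/

open CategoryTheory CategoryTheory.Limits Opposite TopologicalSpace AlgebraicGeometry
open AlgebraicGeometry.Scheme.Modules MonoidalCategory CartesianMonoidalCategory MonObj

namespace Groth.Agent.Helper7.AbOmega

section Main

variable {S : Scheme.{u}} (X : Over S) [GrpObj X]

theorem unit_comp_hom : η[X].left ≫ X.hom = 𝟙 S := by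
  simp

variable [IsProper X.hom] [Flat X.hom] [LocallyOfFinitePresentation X.hom]
  [GeometricallyReduced X.hom] [GeometricallyConnected X.hom]

/-- the structure morphism of an abelian scheme has `O_S = f_* O_X` -/
theorem bijective_app (U : S.Opens) : Function.Bijective (X.hom.app U) := by
  haveI := Groth.Agent.Helper7.GenBC.isIso_app_of_geom_reduced_connected X.hom
    (fun K _ _ g =>
      ⟨pullback_of_geometrically GeometricallyReduced.geometrically_isReduced K g,
        pullback_of_geometrically GeometricallyConnected.geometrically_connectedSpace K g⟩) U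
  exact (ConcreteCategory.isIso_iff_bijective (X.hom.app U)).1 inferInstance

/-- the differentials of an abelian scheme are finite locally free -/
theorem isFinLocFree_omega : FlatMod.IsFinLocFree (Omega.sheaf X.hom) := by
  haveI : Smooth X.hom := Groth.Agent.S7795.result X
  intro x
  obtain ⟨U, n, hxU, he, -⟩ := Groth.Agent.Helper2.SmoothRelDim.S5019_main X.hom
    (Omega.sheaf X.hom) (OmegaSh.dOmega X.hom) (Groth.Agent.Lead.OmU.isUniversal_dOmega X.hom) x
  exact ⟨U, n, hxU, he⟩

/-- the pullback of the differentials along the unit section is the conormal sheaf of the unit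
section -/
noncomputable def pullUnitIso (φ : Omega.sheaf X.hom ≅
      (Scheme.Modules.pullback X.hom).obj (Omega.conormal η[X].left)) :
    (Scheme.Modules.pullback η[X].left).obj (Omega.sheaf X.hom) ≅ Omega.conormal η[X].left :=
  (Scheme.Modules.pullback η[X].left).mapIso φ ≪≫
    (Scheme.Modules.pullbackComp η[X].left X.hom).app _ ≪≫
    (Scheme.Modules.pullbackCongr (unit_comp_hom X)).app _ ≪≫
    (Scheme.Modules.pullbackId S).app _

theorem isFinLocFree_pull_omega :
    FlatMod.IsFinLocFree ((Scheme.Modules.pullback η[X].left).obj (Omega.sheaf X.hom)) :=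
  Groth.Agent.Lib.Helper5.PerfPull.isFinLocFree_pullback _ _ (isFinLocFree_omega X)

theorem isFinLocFree_conormal : FlatMod.IsFinLocFree (Omega.conormal η[X].left) := by
  obtain ⟨⟨φ⟩, -⟩ := Groth.Agent.S1937.result S X
  exact Groth.Agent.Lead.FLF.isFinLocFree_of_iso (pullUnitIso X φ) (isFinLocFree_pull_omega X)

/-- **the direct image of the differentials of an abelian scheme is their pullback along the unit
section** -/
theorem main :
    FlatMod.IsFinLocFree ((Scheme.Modules.pullback η[X].left).obj (Omega.sheaf X.hom)) ∧
      Nonempty ((Coh.push X.hom).obj (Omega.sheaf X.hom) ≅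
        (Scheme.Modules.pullback η[X].left).obj (Omega.sheaf X.hom)) := by
  obtain ⟨⟨φ⟩, -⟩ := Groth.Agent.S1937.result S X
  haveI := Groth.Agent.Lib.Helper4.UnitFLF1.isIso_unit_of_isFinLocFree X.hom (bijective_app X) _
    (isFinLocFree_conormal X)
  exact ⟨isFinLocFree_pull_omega X, ⟨(Scheme.Modules.pushforward X.hom).mapIso φ ≪≫
    (asIso ((Scheme.Modules.pullbackPushforwardAdjunction X.hom).unit.app
      (Omega.conormal η[X].left))).symm ≪≫ (pullUnitIso X φ).symm⟩⟩

end Main

end Groth.Agent.Helper7.AbOmega
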