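import Mathlib
import Groth.Prelude.Def_Omega2
import Groth.Agent.Lib.Helper7.AbOmega.Push
import Groth.Agent.Lib.Helper7.GenBC.HComp

set_option linter.style.haveILetI false
set_option linter.unusedVariables false
set_option linter.unusedSectionVars false
set_option autoImplicit false
set_option backward.isDefEq.respectTransparency.types false
set_option backward.isDefEq.respectTransparency false
set_option synthInstance.maxHeartbeats 400000
set_option maxHeartbeats 1600000

universe u

/-! helper7: the global differentials of an abelian scheme are the global sections of their pullback along the unit section: the unit of the adjunction of the unit section is bijective on global sections -/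

open CategoryTheory CategoryTheory.Limits Opposite TopologicalSpace AlgebraicGeometry
open AlgebraicGeometry.Scheme.Modules MonoidalCategory CartesianMonoidalCategory MonObj
open Groth.Agent.Lead.BCU
open Groth.Agent.Helper7.GenBC
open Groth.Agent.Helper7.GenBC.HComp

namespace Groth.Agent.Helper7.AbOmega

section Gen

theorem bijective_iso_app {Z : Scheme.{u}} {K₁ K₂ : Z.Modules} (θ : K₁ ≅ K₂) (O : Z.Opens) :
    Function.Bijective (fun z : Γ(K₁, O) => θ.hom.app O z) :=
  Function.bijective_iff_has_inverse.2 ⟨fun z => θ.inv.app O z,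
    fun z => iso_hom_inv_app θ O z, fun z => iso_inv_hom_app θ O z⟩

theorem bijective_res_of_le {Z : Scheme.{u}} (H : Z.Modules) {O O' : Z.Opens} (h : O' ≤ O)
    (h' : O ≤ O') : Function.Bijective (fun x : Γ(H, O) => res H h x) :=
  Function.bijective_iff_has_inverse.2 ⟨fun y => res H h' y,
    fun x => map_map_self H _ _ x, fun y => map_map_self H _ _ y⟩

/-- the unit of the adjunction of an identity morphism is an isomorphism -/
theorem isIso_unit_id {S : Scheme.{u}} (N : S.Modules) :
    IsIso ((pullbackPushforwardAdjunction (𝟙 S)).unit.app N) := by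
  haveI : (Scheme.Modules.pushforward (𝟙 S)).IsEquivalence :=
    Functor.isEquivalence_of_iso (Scheme.Modules.pushforwardId S).symm
  haveI : (Scheme.Modules.pullback (𝟙 S)).IsEquivalence :=
    (pullbackPushforwardAdjunction (𝟙 S)).isEquivalence_left_of_isEquivalence_right
  infer_instance

theorem bijective_app_of_isIso {Z : Scheme.{u}} {K₁ K₂ : Z.Modules} (ψ : K₁ ⟶ K₂) [IsIso ψ]
    (O : Z.Opens) : Function.Bijective (fun z : Γ(K₁, O) => ψ.app O z) :=
  bijective_iso_app (asIso ψ) O

variable {X S : Scheme.{u}} (f : X ⟶ S) (e : S ⟶ X) (he : e ≫ f = 𝟙 S) (N : S.Modules)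

include he in
/-- for a section `e` of `f` and a module `N` on the base whose unit `N ⟶ f_* f^* N` is an
isomorphism, the unit of the adjunction of `e` at `f^* N` is bijective on global sections -/
theorem bijective_unit_top_of_section
    [IsIso ((pullbackPushforwardAdjunction f).unit.app N)] :
    Function.Bijective (fun x : Γ((Scheme.Modules.pullback f).obj N, ⊤) =>
      ((pullbackPushforwardAdjunction e).unit.app ((Scheme.Modules.pullback f).obj N)).app ⊤ x) := by
  have e1 : (⊤ : X.Opens) ≤ f ⁻¹ᵁ ⊤ := fun _ _ => trivial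
  have e1' : f ⁻¹ᵁ (⊤ : S.Opens) ≤ ⊤ := fun _ _ => trivial
  have e2 : (⊤ : S.Opens) ≤ e ⁻¹ᵁ ⊤ := fun _ _ => trivial
  have e2' : e ⁻¹ᵁ (⊤ : X.Opens) ≤ ⊤ := fun _ _ => trivial
  have hO : (⊤ : S.Opens) ≤ (e ≫ f) ⁻¹ᵁ ⊤ := fun _ _ => trivial
  have hO' : (⊤ : S.Opens) ≤ (𝟙 S) ⁻¹ᵁ ⊤ := fun _ _ => trivial
  have hO'' : (𝟙 S) ⁻¹ᵁ (⊤ : S.Opens) ≤ ⊤ := fun _ _ => trivial
  -- the four maps
  have hA : Function.Bijective (fun n : Γ(N, ⊤) => unitRes f N e1 n) :=
    (bijective_res_of_le ((Scheme.Modules.pullback f).obj N) e1 e1').comp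
      (bijective_app_of_isIso ((pullbackPushforwardAdjunction f).unit.app N) ⊤)
  have hD : Function.Bijective (fun n : Γ(N, ⊤) => unitRes (𝟙 S) N hO' n) := by
    haveI := isIso_unit_id N
    exact (bijective_res_of_le ((Scheme.Modules.pullback (𝟙 S)).obj N) hO' hO'').comp
      (bijective_app_of_isIso ((pullbackPushforwardAdjunction (𝟙 S)).unit.app N) ⊤)
  have hC1 := bijective_iso_app ((pullbackComp e f).app N) (⊤ : S.Opens)
  have hC2 := bijective_iso_app ((pullbackCongr he).app N) (⊤ : S.Opens)
  have hR := bijective_res_of_le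
    ((Scheme.Modules.pullback e).obj ((Scheme.Modules.pullback f).obj N)) e2 e2'
  -- the relation
  have key : ∀ n : Γ(N, ⊤),
      ((pullbackCongr he).hom.app N).app ⊤ (((pullbackComp e f).hom.app N).app ⊤
        (unitRes e ((Scheme.Modules.pullback f).obj N) e2 (unitRes f N e1 n))) =
      unitRes (𝟙 S) N hO' n := by
    intro n
    rw [pullbackComp_unitRes e f N e1 e2 hO n]
    exact congr_unit_res he N ⊤ hO hO' n
  -- conclude
  have hRT : Function.Bijective (fun x : Γ((Scheme.Modules.pullback f).obj N, ⊤) =>
      unitRes e ((Scheme.Modules.pullback f).obj N) e2 x) := by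
    have h1 : Function.Bijective ((fun z => ((pullbackCongr he).hom.app N).app ⊤ z) ∘
        (fun z => ((pullbackComp e f).hom.app N).app ⊤ z) ∘
        (fun x : Γ((Scheme.Modules.pullback f).obj N, ⊤) =>
          unitRes e ((Scheme.Modules.pullback f).obj N) e2 x) ∘
        (fun n : Γ(N, ⊤) => unitRes f N e1 n)) := by
      have h2 : ((fun z => ((pullbackCongr he).hom.app N).app ⊤ z) ∘
          (fun z => ((pullbackComp e f).hom.app N).app ⊤ z) ∘
          (fun x : Γ((Scheme.Modules.pullback f).obj N, ⊤) =>
            unitRes e ((Scheme.Modules.pullback f).obj N) e2 x) ∘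
          (fun n : Γ(N, ⊤) => unitRes f N e1 n)) =
          (fun n : Γ(N, ⊤) => unitRes (𝟙 S) N hO' n) := funext key
      rw [h2]
      exact hD
    have h3 := (Function.Bijective.of_comp_iff' hC2 _).1 h1
    have h4 := (Function.Bijective.of_comp_iff' hC1 _).1 h3
    exact (Function.Bijective.of_comp_iff _ hA).1 h4
  exact (Function.Bijective.of_comp_iff' hR _).1 hRT

end Gen

section Main

variable {S : Scheme.{u}} (A : Over S) [GrpObj A] [IsProper A.hom] [Flat A.hom]
  [LocallyOfFinitePresentation A.hom] [GeometricallyReduced A.hom]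
  [GeometricallyConnected A.hom]

/-- **every global differential of an abelian scheme is invariant** -/
theorem bijective_unit_sections :
    Function.Bijective
      (((Scheme.Modules.pullbackPushforwardAdjunction η[A].left).unit.app
        (Omega.sheaf A.hom)).val.app (op ⊤)).hom := by
  obtain ⟨⟨φ⟩, -⟩ := Groth.Agent.S1937.result S A
  haveI := Groth.Agent.Lib.Helper4.UnitFLF1.isIso_unit_of_isFinLocFree A.hom (bijective_app A) _
    (isFinLocFree_conormal A)
  have hM := bijective_unit_top_of_section A.hom η[A].left (unit_comp_hom A)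
    (Omega.conormal η[A].left)
  have hφ := bijective_iso_app φ (⊤ : A.left.Opens)
  have hφ' := bijective_iso_app ((Scheme.Modules.pullback η[A].left).mapIso φ)
    (η[A].left ⁻¹ᵁ (⊤ : A.left.Opens))
  have hnat : ((fun z => ((Scheme.Modules.pullback η[A].left).map φ.hom).app
        (η[A].left ⁻¹ᵁ (⊤ : A.left.Opens)) z) ∘
      (fun m : Γ(Omega.sheaf A.hom, ⊤) =>
        ((pullbackPushforwardAdjunction η[A].left).unit.app (Omega.sheaf A.hom)).app ⊤ m)) =
      ((fun x => ((pullbackPushforwardAdjunction η[A].left).unit.app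
        ((Scheme.Modules.pullback A.hom).obj (Omega.conormal η[A].left))).app ⊤ x) ∘
      (fun m : Γ(Omega.sheaf A.hom, ⊤) => φ.hom.app ⊤ m)) :=
    funext fun m => unit_naturality_apply η[A].left φ.hom ⊤ m
  have h1 : Function.Bijective ((fun z => ((Scheme.Modules.pullback η[A].left).map φ.hom).app
        (η[A].left ⁻¹ᵁ (⊤ : A.left.Opens)) z) ∘
      (fun m : Γ(Omega.sheaf A.hom, ⊤) =>
        ((pullbackPushforwardAdjunction η[A].left).unit.app (Omega.sheaf A.hom)).app ⊤ m)) := by
    rw [hnat]
    exact hM.comp hφ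
  exact (Function.Bijective.of_comp_iff' hφ' _).1 h1

end Main

end Groth.Agent.Helper7.AbOmega
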